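import Mathlib

/-!
# The norm sum argument for splitting automorphisms

`pow_card_eq_one`: `V` abelian, `A` a finite group of automorphisms of `V`, `t` normalizing `A`,
`(a t)^p = 1` and `v · (a t) v ⋯ (a t)^(p-1) v = 1` for all `a ∈ A`, `v ∈ V`, and `C_V(A) = 1`.
Then `v ^ |A| = 1` for all `v`.
-/

set_option autoImplicit false

namespace Cfsg.Agent.H550.KegelSum

open Subgroup

theorem eq_of_pow_eq {E : Type*} [Group E] {x y : E} {p i : ℕ} (hp : p.Prime) (hi0 : 0 < i)
    (hip : i < p) (hx : x ^ p = 1) (hy : y ^ p = 1) (hxy : x ^ i = y ^ i) : x = y := by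
  have hcop : Nat.Coprime i p :=
    (hp.coprime_iff_not_dvd.2 (Nat.not_dvd_of_pos_of_lt hi0 hip)).symm
  obtain ⟨m, n, hmn⟩ : IsCoprime (i : ℤ) (p : ℤ) := Nat.isCoprime_iff_coprime.2 hcop
  have key : ∀ z : E, z ^ p = 1 → z = (z ^ i) ^ m := by
    intro z hz
    calc z = z ^ (m * (i : ℤ) + n * (p : ℤ)) := by rw [hmn, zpow_one]
      _ = (z ^ i) ^ m := by
        rw [zpow_add, mul_comm m, mul_comm n, zpow_mul, zpow_mul, zpow_natCast, zpow_natCast, hz,
          one_zpow, mul_one]
  rw [key x hx, key y hy, hxy]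

theorem pow_card_eq_one {V : Type*} [CommGroup V] (A : Subgroup (MulAut V)) [Finite A]
    (t : MulAut V) (ht : t ∈ normalizer (A : Set (MulAut V))) {p : ℕ} (hp : p.Prime)
    (h1 : ∀ a ∈ A, (a * t) ^ p = 1)
    (h2 : ∀ a ∈ A, ∀ v : V, ∏ i ∈ Finset.range p, ((a * t) ^ i) v = 1)
    (hfix : ∀ v : V, (∀ a ∈ A, a v = v) → v = 1) (v : V) : v ^ Nat.card A = 1 := by
  classical
  have := Fintype.ofFinite A
  have hmem : ∀ (i : ℕ) (a : MulAut V), a ∈ A → (a * t) ^ i * (t ^ i)⁻¹ ∈ A := by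
    intro i
    induction i with
    | zero => intro a _; simp
    | succ i ih =>
      intro a ha
      have h3 : (a * t) ^ (i + 1) * (t ^ (i + 1))⁻¹ =
          (a * t) ^ i * (t ^ i)⁻¹ * (t ^ i * a * (t ^ i)⁻¹) := by
        rw [pow_succ, pow_succ]
        group
      rw [h3]
      refine mul_mem (ih a ha) ?_
      exact (mem_normalizer_iff.1 (pow_mem ht i) a).1 ha
  have hprod : ∀ i : ℕ, 0 < i → i < p → ∏ a : A, (((a : MulAut V) * t) ^ i) v = 1 := by
    intro i hi0 hip
    have hbij : Function.Bijective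
        (fun a : A => (⟨((a : MulAut V) * t) ^ i * (t ^ i)⁻¹, hmem i a a.2⟩ : A)) := by
      refine Finite.injective_iff_bijective.1 ?_
      intro a b hab
      have h4 : ((a : MulAut V) * t) ^ i * (t ^ i)⁻¹ = ((b : MulAut V) * t) ^ i * (t ^ i)⁻¹ :=
        congrArg Subtype.val hab
      have h5 := mul_right_cancel h4
      have h6 := eq_of_pow_eq hp hi0 hip (h1 a a.2) (h1 b b.2) h5
      exact Subtype.ext (mul_right_cancel h6)
    have h4 : ∏ a : A, (((a : MulAut V) * t) ^ i) v = ∏ a : A, (a : MulAut V) ((t ^ i) v) := by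
      rw [← hbij.prod_comp (fun a : A => (a : MulAut V) ((t ^ i) v))]
      apply Finset.prod_congr rfl
      intro a _
      change _ = (((a : MulAut V) * t) ^ i * (t ^ i)⁻¹) ((t ^ i) v)
      rw [← MulAut.mul_apply, inv_mul_cancel_right]
    apply hfix
    intro b hb
    rw [h4, map_prod]
    exact Fintype.prod_equiv (Equiv.mulLeft (⟨b, hb⟩ : A)) _ _ (fun a => rfl)
  have h5 : ∏ a : A, ∏ i ∈ Finset.range p, (((a : MulAut V) * t) ^ i) v = 1 :=
    Finset.prod_eq_one (fun a _ => h2 a a.2 v)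
  rw [Finset.prod_comm, Finset.prod_eq_single 0] at h5
  · simpa [Nat.card_eq_fintype_card] using h5
  · intro i hi hi0
    exact hprod i (Nat.pos_of_ne_zero hi0) (Finset.mem_range.1 hi)
  · intro h
    exact absurd (Finset.mem_range.2 hp.pos) h

open scoped IsMulCommutative in
/-- `(v y)^n = (∏_{i<n} y^i v y^(-i)) y^n` for `v` in an abelian normal subgroup. -/
theorem mul_pow_eq {G : Type*} [Group G] (V : Subgroup G) [V.Normal] [IsMulCommutative V] (v : V) (y : G)
    (n : ℕ) : ((v : G) * y) ^ n =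
      ((∏ i ∈ Finset.range n, ((MulAut.conjNormal y : MulAut V) ^ i) v : V) : G) * y ^ n := by
  induction n with
  | zero => simp
  | succ n ih =>
    rw [pow_succ, ih, Finset.prod_range_succ, Subgroup.coe_mul, ← map_pow,
      MulAut.conjNormal_apply, pow_succ]
    group

end Cfsg.Agent.H550.KegelSum
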